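import Mathlib
import Cfsg.Agent.Lib.PGroup.OmegaRankTwo
import Cfsg.Agent.Lib.Solvable.CoprimeAction

/-!
A `p`-group (`p` odd) acting coprimely on an abelian group `V` with two generating sets `C`, `D`
such that `V = C_V(c) C_V(d)` for all pairs acts trivially.
-/

set_option autoImplicit false

namespace CfsgLib.TwoSetAction

/-- A nontrivial cyclic `p`-group: a generating set contains a generator. -/
theorem exists_generator_mem {A : Type*} [Group A] [Finite A] {p : ℕ} [Fact p.Prime]
    (hA : IsPGroup p A) [IsCyclic A] {C : Set A} (hC : Subgroup.closure C = ⊤) (z : A) (hz : z ≠ 1) :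
    ∃ c ∈ C, z ∈ Subgroup.zpowers c := by
  have hp : p.Prime := Fact.out
  obtain ⟨g, hg⟩ := IsCyclic.exists_generator (α := A)
  obtain ⟨k, hk⟩ := IsPGroup.iff_orderOf.1 hA g
  have hgp : ¬ ∀ x : A, x ∈ Subgroup.zpowers (g ^ p) := by
    intro hall
    obtain ⟨i, hi⟩ := hall g
    simp only at hi
    rw [← zpow_natCast g p, ← zpow_mul] at hi
    have h1 : g ^ ((p : ℤ) * i - 1) = 1 := by rw [zpow_sub, zpow_one, hi, mul_inv_cancel]
    have h2 := orderOf_dvd_iff_zpow_eq_one.2 h1
    have hk0 : k ≠ 0 := by
      rintro rfl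
      rw [pow_zero, orderOf_eq_one_iff] at hk
      obtain ⟨j, hj⟩ := hg z
      simp only [hk, one_zpow] at hj
      exact hz hj.symm
    have h3 : (p : ℤ) ∣ (p : ℤ) * i - 1 := by
      refine dvd_trans ?_ h2
      rw [hk]; exact_mod_cast dvd_pow_self p hk0
    have h4 : (p : ℤ) ∣ 1 := by simpa using dvd_sub (dvd_mul_right (p : ℤ) i) h3
    exact hp.one_lt.ne' (Nat.dvd_one.1 (by exact_mod_cast h4))
  obtain ⟨c, hcC, hc⟩ : ∃ c ∈ C, c ∉ Subgroup.zpowers (g ^ p) := by
    by_contra hcon
    push Not at hcon
    refine hgp fun x => ?_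
    have hle := (Subgroup.closure_le _).2 hcon
    rw [hC] at hle
    exact hle (Subgroup.mem_top x)
  refine ⟨c, hcC, ?_⟩
  obtain ⟨i, rfl⟩ := hg c
  simp only at hc ⊢
  have hi : ¬ (p : ℤ) ∣ i := by
    rintro ⟨j, rfl⟩
    exact hc ⟨j, by simp only; rw [← zpow_natCast g p, ← zpow_mul]⟩
  obtain ⟨j, hj⟩ := hg z
  simp only at hj
  have hcop : IsCoprime i ((orderOf g : ℕ) : ℤ) := by
    rw [hk, Nat.cast_pow]
    exact ((Prime.coprime_iff_not_dvd (Nat.prime_iff_prime_int.1 hp)).2 hi).symm.pow_right
  obtain ⟨u, v, huv⟩ := hcop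
  refine ⟨u * j, ?_⟩
  simp only
  rw [← zpow_mul, ← hj]
  have e : i * (u * j) = j + (orderOf g : ℤ) * (-(v * j)) := by linear_combination j * huv
  rw [e, zpow_add, zpow_mul, zpow_natCast, pow_orderOf_eq_one, one_zpow, mul_one]

/-- The hypothesis, for a group of automorphisms. -/
def Decomposes {V : Type*} [CommGroup V] {A : Type*} [Group A] (φ : A →* MulAut V) (C D : Set A) : Prop :=
  ∀ c ∈ C, ∀ d ∈ D, ∀ v : V, ∃ u w : V, φ c u = u ∧ φ d w = w ∧ v = u * w

section Elementary

variable {V : Type*} [CommGroup V] {p : ℕ} [Fact p.Prime]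

variable (ψ : Multiplicative (ZMod p × ZMod p) →* MulAut V)

/-- The action of a pair of exponents. -/
def act (a b : ZMod p) : MulAut V := ψ (Multiplicative.ofAdd (a, b))

theorem act_mul (a b a' b' : ZMod p) (v : V) :
    act ψ a b (act ψ a' b' v) = act ψ (a + a') (b + b') v := by
  rw [act, act, act, ← MulAut.mul_apply, ← map_mul]
  rfl

theorem act_zero (v : V) : act ψ 0 0 v = v := by
  have e : act ψ (0 : ZMod p) 0 = 1 := map_one ψ
  rw [e, MulAut.one_apply]

/-- The product over the line of slope `i`. -/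
def lineProd (i : ZMod p) : V →* V where
  toFun v := ∏ a : ZMod p, act ψ a (i * a) v
  map_one' := by simp
  map_mul' u v := by simp [Finset.prod_mul_distrib]

theorem lineProd_apply (i : ZMod p) (v : V) : lineProd ψ i v = ∏ a : ZMod p, act ψ a (i * a) v := rfl

theorem act_lineProd (i : ZMod p) (v : V) : act ψ 1 i (lineProd ψ i v) = lineProd ψ i v := by
  rw [lineProd_apply, map_prod]
  refine Fintype.prod_equiv (Equiv.addLeft (1 : ZMod p)) _ _ fun a => ?_
  rw [act_mul, Equiv.coe_addLeft, mul_add, mul_one]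

variable (hfix : ∀ v : V, act ψ 0 1 v = v → v = 1)
include hfix

theorem prod_column (a : ZMod p) (v : V) : ∏ b : ZMod p, act ψ a b v = 1 := by
  apply hfix
  rw [map_prod]
  refine Fintype.prod_equiv (Equiv.addLeft (1 : ZMod p)) _ _ fun b => ?_
  rw [act_mul, zero_add, Equiv.coe_addLeft]

theorem prod_lineProd (v : V) : ∏ i : ZMod p, lineProd ψ i v = v ^ p := by
  classical
  simp only [lineProd_apply]
  rw [Finset.prod_comm, Finset.prod_eq_single (0 : ZMod p)]
  · simp [act_zero]
  · intro a _ ha
    rw [← prod_column ψ hfix a v]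
    exact Fintype.prod_equiv (Equiv.mulRight₀ a ha) _ _ fun i => rfl
  · simp

theorem lineProd_comp {i j : ZMod p} (hij : i ≠ j) (v : V) : lineProd ψ i (lineProd ψ j v) = 1 := by
  classical
  simp only [lineProd_apply, map_prod, act_mul]
  have hall : ∏ x : ZMod p × ZMod p, act ψ x.1 x.2 v = 1 := by
    rw [Fintype.prod_prod_type]
    exact Finset.prod_eq_one fun a _ => prod_column ψ hfix a v
  rw [← hall, ← Fintype.prod_prod_type']
  refine Fintype.prod_bijective (fun x : ZMod p × ZMod p => (x.2 + x.1, i * x.2 + j * x.1))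
    ?_ _ _ fun x => rfl
  rw [← Finite.injective_iff_bijective]
  rintro ⟨b, a⟩ ⟨b', a'⟩ e
  simp only [Prod.mk.injEq] at e
  have h1 : (i - j) * (a - a') = 0 := by linear_combination e.2 - j * e.1
  obtain rfl : a = a' := sub_eq_zero.1 ((mul_eq_zero.1 h1).resolve_left (sub_ne_zero.2 hij))
  exact Prod.ext (add_left_cancel e.1) rfl

omit hfix

theorem lineProd_self (i : ZMod p) (v : V) :
    lineProd ψ i (lineProd ψ i v) = lineProd ψ i v ^ p := by
  rw [lineProd_apply ψ i (lineProd ψ i v)]
  have h : ∀ a : ZMod p, act ψ a (i * a) (lineProd ψ i v) = lineProd ψ i v := by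
    intro a
    rw [lineProd_apply, map_prod]
    refine Fintype.prod_equiv (Equiv.addLeft a) _ _ fun a' => ?_
    rw [act_mul, Equiv.coe_addLeft, mul_add]
  simp [h]

end Elementary

/-- A hom `ZMod p × ZMod p` attached to two commuting elements of order dividing `p`. -/
theorem exists_pairHom {A : Type*} [Group A] {p : ℕ} [Fact p.Prime] {x y : A} (hc : Commute x y)
    (hx : x ^ p = 1) (hy : y ^ p = 1) :
    ∃ ψ : Multiplicative (ZMod p × ZMod p) →* A,
      ∀ a b : ℕ, ψ (Multiplicative.ofAdd ((a : ZMod p), (b : ZMod p))) = x ^ a * y ^ b := by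
  have hmod : ∀ (g : A), g ^ p = 1 → ∀ n : ℕ, g ^ (n : ZMod p).val = g ^ n := fun g hg n => by
    rw [ZMod.val_natCast, ← pow_eq_pow_mod n hg]
  let f : Multiplicative (ZMod p × ZMod p) → A := fun w => x ^ w.toAdd.1.val * y ^ w.toAdd.2.val
  refine ⟨MonoidHom.mk' f fun u v => ?_, fun a b => ?_⟩
  · simp only [f, toAdd_mul, Prod.fst_add, Prod.snd_add, ZMod.val_add]
    rw [← pow_eq_pow_mod _ hx, ← pow_eq_pow_mod _ hy, pow_add, pow_add,
      mul_assoc (x ^ u.toAdd.1.val), ← mul_assoc (x ^ v.toAdd.1.val),
      (hc.pow_pow v.toAdd.1.val u.toAdd.2.val).eq, mul_assoc (y ^ u.toAdd.2.val), ← mul_assoc]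
  · simp [f, ← pow_eq_pow_mod a hx, ← pow_eq_pow_mod b hy]

/-- A nontrivial normal subgroup of a `p`-group contains a nontrivial central element. -/
theorem exists_central {R : Type*} [Group R] [Finite R] {p : ℕ} [Fact p.Prime] (hR : IsPGroup p R)
    (N : Subgroup R) [N.Normal] (hN : N ≠ ⊥) : ∃ w, w ≠ 1 ∧ w ∈ N ∧ w ∈ Subgroup.center R := by
  obtain ⟨w, hw, hw1⟩ := CfsgLib.Solvable.exists_ne_one_mem_inf_center_of_normal hR hN
  exact ⟨w, hw1, hw.1, hw.2⟩

/-- The inductive statement, for faithful actions. -/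
theorem trivial_of_decomposes {p : ℕ} [Fact p.Prime] (hp3 : 3 ≤ p) :
    ∀ (n : ℕ) {V : Type*} [CommGroup V] [Finite V], Nat.card V ≤ n → (Nat.card V).Coprime p →
      ∀ (A : Subgroup (MulAut V)), IsPGroup p A → ∀ (C D : Set A), Subgroup.closure C = ⊤ →
        Subgroup.closure D = ⊤ → Decomposes A.subtype C D → A = ⊥ := by
  intro n
  induction n with
  | zero =>
    intro V _ _ hn
    exact absurd hn (by have := Nat.card_pos (α := V); omega)
  | succ n ih =>
    intro V _ _ hn hcop A hA C D hC hD hdec
    have hp : p.Prime := Fact.out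
    haveI : Finite (MulAut V) := Finite.of_injective (fun e : MulAut V => e.toEquiv) fun a b e =>
      MulEquiv.ext fun v => Equiv.congr_fun e v
    by_contra hne
    have hpow : ∀ v : V, v ^ p = 1 → v = 1 := fun v hv =>
      orderOf_eq_one_iff.1 (Nat.eq_one_of_dvd_coprimes hcop (orderOf_dvd_natCard v)
        (orderOf_dvd_of_pow_eq_one hv))
    haveI : Nontrivial A := (Subgroup.nontrivial_iff_ne_bot A).2 hne
    -- every central element of order `p` acts without fixed points
    have hfpf : ∀ z ∈ Subgroup.center A, z ^ p = 1 → z ≠ 1 → ∀ v : V, (z : MulAut V) v = v → v = 1 := by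
      intro z hz hzp hz1 v₀ hv₀
      by_contra hv₀1
      have hzc : ∀ (a : A) (v : V), (a : MulAut V) ((z : MulAut V) v) = (z : MulAut V) ((a : MulAut V) v) := by
        intro a v
        rw [← MulAut.mul_apply, ← MulAut.mul_apply]
        exact congrArg (fun e : A => (e : MulAut V) v) (Subgroup.mem_center_iff.1 hz a)
      let δ : V →* V := MonoidHom.mk' (fun v => (z : MulAut V) v / v)
        (fun u v => by rw [map_mul, mul_div_mul_comm])
      have hcardδ : Nat.card δ.range * Nat.card δ.ker = Nat.card V := by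
        rw [← Nat.card_congr (QuotientGroup.quotientKerEquivRange δ).toEquiv]
        exact (Subgroup.card_eq_card_quotient_mul_card_subgroup δ.ker).symm
      have hker : ∀ v, v ∈ δ.ker ↔ (z : MulAut V) v = v := fun v => by
        rw [MonoidHom.mem_ker]; exact div_eq_one
      have hkerI : ∀ (a : A), ∀ v ∈ δ.ker, (a : MulAut V) v ∈ δ.ker := fun a v hv => by
        rw [hker] at hv ⊢; rw [← hzc, hv]
      have hcomm : ∀ (a : A) (v : V), (a : MulAut V) (δ v) = δ ((a : MulAut V) v) := fun a v => by
        show (a : MulAut V) ((z : MulAut V) v / v) = _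
        rw [map_div, hzc]; rfl
      have hranI : ∀ (a : A), ∀ v ∈ δ.range, (a : MulAut V) v ∈ δ.range := by
        rintro a _ ⟨v, rfl⟩; exact ⟨_, (hcomm a v).symm⟩
      have sub : ∀ (W : Subgroup V) (hW : ∀ (a : A), ∀ v ∈ W, (a : MulAut V) v ∈ W),
          Nat.card W ≤ n → (∀ c ∈ C, ∀ d ∈ D, ∀ v ∈ W, ∃ u ∈ W, ∃ w ∈ W,
            (c : MulAut V) u = u ∧ (d : MulAut V) w = w ∧ v = u * w) →
          ∀ (a : A), ∀ v ∈ W, (a : MulAut V) v = v := by
        intro W hW hWn hWd
        let e : A → MulAut W := fun a =>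
          { toFun := fun v => ⟨(a : MulAut V) (v : V), hW a v v.2⟩
            invFun := fun v => ⟨((a⁻¹ : A) : MulAut V) (v : V), hW _ v v.2⟩
            left_inv := fun v => Subtype.ext (by
              show ((a⁻¹ : A) : MulAut V) ((a : MulAut V) (v : V)) = (v : V)
              rw [← MulAut.mul_apply, ← Subgroup.coe_mul, inv_mul_cancel]; rfl)
            right_inv := fun v => Subtype.ext (by
              show (a : MulAut V) (((a⁻¹ : A) : MulAut V) (v : V)) = (v : V)
              rw [← MulAut.mul_apply, ← Subgroup.coe_mul, mul_inv_cancel]; rfl)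
            map_mul' := fun u v => Subtype.ext (map_mul (a : MulAut V) (u : V) (v : V)) }
        let ρ : A →* MulAut W := MonoidHom.mk' e fun a b => MulEquiv.ext fun v => Subtype.ext rfl
        have himg : ∀ S : Set A, Subgroup.closure S = ⊤ →
            Subgroup.closure (ρ.rangeRestrict '' S) = ⊤ := fun S hS => by
          rw [← MonoidHom.map_closure, hS, Subgroup.map_top_of_surjective _ ρ.rangeRestrict_surjective]
        have hbot := ih hWn (hcop.coprime_dvd_left (Subgroup.card_subgroup_dvd_card W)) ρ.range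
          (hA.of_surjective ρ.rangeRestrict ρ.rangeRestrict_surjective) _ _ (himg C hC) (himg D hD) (by
            rintro _ ⟨c, hc, rfl⟩ _ ⟨d, hd, rfl⟩ ⟨v, hv⟩
            obtain ⟨u, hu, w, hw, e1, e2, e3⟩ := hWd c hc d hd v hv
            exact ⟨⟨u, hu⟩, ⟨w, hw⟩, Subtype.ext e1, Subtype.ext e2, Subtype.ext e3⟩)
        intro a v hv
        have h1 : ρ a = 1 := by
          have hm : ρ a ∈ ρ.range := ⟨a, rfl⟩
          rw [hbot, Subgroup.mem_bot] at hm
          exact hm
        exact congrArg Subtype.val (DFunLike.congr_fun h1 ⟨v, hv⟩)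
      have hz1' : δ.ker ≠ ⊤ := by
        intro e
        refine hz1 (Subtype.ext (MulEquiv.ext fun v => ?_))
        exact (hker v).1 (e ▸ Subgroup.mem_top v)
      have hkerlt : Nat.card δ.ker < Nat.card V := by
        refine lt_of_le_of_ne (Subgroup.card_le_card_group _) fun e => hz1' ?_
        exact Subgroup.eq_top_of_card_eq _ e
      have hranlt : Nat.card δ.range < Nat.card V := by
        have h1 : 1 < Nat.card δ.ker := by
          rw [Finite.one_lt_card_iff_nontrivial]
          exact ⟨⟨⟨v₀, (hker v₀).2 hv₀⟩, 1, fun e => hv₀1 (congrArg Subtype.val e)⟩⟩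
        have h2 := Nat.card_pos (α := δ.range)
        calc Nat.card δ.range = Nat.card δ.range * 1 := (mul_one _).symm
          _ < Nat.card δ.range * Nat.card δ.ker := (Nat.mul_lt_mul_left h2).2 h1
          _ = _ := hcardδ
      have hran := sub δ.range hranI (by omega) (by
        rintro c hc d hd _ ⟨v, rfl⟩
        obtain ⟨u, w, e1, e2, e3⟩ := hdec c hc d hd v
        refine ⟨δ u, ⟨u, rfl⟩, δ w, ⟨w, rfl⟩, ?_, ?_, by rw [← map_mul, ← e3]⟩
        · rw [hcomm]; exact congrArg δ e1
        · rw [hcomm]; exact congrArg δ e2)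
      -- the average over the powers of `z`
      let avg : V →* V := MonoidHom.mk' (fun v => ∏ i ∈ Finset.range p, ((z : MulAut V) ^ i) v)
        (fun u v => by simp [Finset.prod_mul_distrib])
      have hzp' : (z : MulAut V) ^ p = 1 := by rw [← Subgroup.coe_pow, hzp]; rfl
      have havg : ∀ v, avg v ∈ δ.ker := by
        intro v
        rw [hker]
        show (z : MulAut V) (∏ i ∈ Finset.range p, ((z : MulAut V) ^ i) v) = _
        rw [map_prod]
        have h1 := Finset.prod_range_succ' (fun i => ((z : MulAut V) ^ i) v) p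
        have h2 := Finset.prod_range_succ (fun i => ((z : MulAut V) ^ i) v) p
        simp only [pow_zero, MulAut.one_apply] at h1
        simp only [hzp', MulAut.one_apply] at h2
        rw [h2] at h1
        refine (Eq.trans (Finset.prod_congr rfl fun i _ => ?_) (mul_right_cancel h1.symm))
        rw [← MulAut.mul_apply, ← pow_succ']
      have havgc : ∀ (a : A) (v : V), (a : MulAut V) (avg v) = avg ((a : MulAut V) v) := by
        intro a v
        show (a : MulAut V) (∏ i ∈ Finset.range p, ((z : MulAut V) ^ i) v) =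
          ∏ i ∈ Finset.range p, ((z : MulAut V) ^ i) ((a : MulAut V) v)
        rw [map_prod]
        refine Finset.prod_congr rfl fun i _ => ?_
        have h1 : Commute (a : MulAut V) (z : MulAut V) :=
          congrArg Subtype.val (Subgroup.mem_center_iff.1 hz a)
        rw [← MulAut.mul_apply, ← MulAut.mul_apply, (h1.pow_right i).eq]
      have havgk : ∀ v ∈ δ.ker, avg v = v ^ p := by
        intro v hv
        have h1 : ∀ i : ℕ, ((z : MulAut V) ^ i) v = v := by
          intro i
          induction i with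
          | zero => rfl
          | succ i ih' => rw [pow_succ, MulAut.mul_apply, (hker v).1 hv, ih']
        show (∏ i ∈ Finset.range p, ((z : MulAut V) ^ i) v) = _
        simp [h1]
      have hkertriv := sub δ.ker hkerI (by omega) (by
        intro c hc d hd v hv
        -- take a `p`-th root inside the kernel
        have hbij : Function.Surjective fun w : δ.ker => w ^ p := by
          refine Finite.injective_iff_surjective.1 fun a b e => ?_
          have e' : (a : V) ^ p = (b : V) ^ p := congrArg Subtype.val e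
          refine Subtype.ext (div_eq_one.1 (hpow _ ?_))
          rw [div_pow, e', div_self']
        obtain ⟨⟨v', hv'⟩, hv'p⟩ := hbij ⟨v, hv⟩
        have hv'p' : v' ^ p = v := congrArg Subtype.val hv'p
        obtain ⟨u, w, e1, e2, e3⟩ := hdec c hc d hd v'
        refine ⟨avg u, havg u, avg w, havg w, ?_, ?_, ?_⟩
        · rw [havgc]; exact congrArg avg e1
        · rw [havgc]; exact congrArg avg e2
        · rw [← map_mul, ← e3, havgk v' hv', hv'p'])
      -- trivial on both parts, hence trivial
      refine hne ((Subgroup.eq_bot_iff_forall A).2 fun a ha => MulEquiv.ext fun v => ?_)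
      set f := a v / v with hf
      have hfk : f ∈ δ.ker := by
        rw [MonoidHom.mem_ker, hf, map_div, ← hcomm ⟨a, ha⟩ v, hran ⟨a, ha⟩ (δ v) ⟨v, rfl⟩, div_self']
      have hiter : ∀ r : ℕ, (a ^ r) v = v * f ^ r := by
        intro r
        induction r with
        | zero => simp
        | succ r ih' =>
          rw [pow_succ', MulAut.mul_apply, ih', map_mul, map_pow, hkertriv ⟨a, ha⟩ f hfk, hf,
            pow_succ', ← mul_assoc]
          simp
      obtain ⟨i, hi⟩ := IsPGroup.iff_orderOf.1 hA ⟨a, ha⟩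
      rw [Subgroup.orderOf_mk] at hi
      have h1 := hiter (orderOf a)
      rw [pow_orderOf_eq_one, MulAut.one_apply, left_eq_mul, hi] at h1
      have hf1 : f = 1 := orderOf_eq_one_iff.1 (Nat.eq_one_of_dvd_coprimes (hcop.pow_right i)
        (orderOf_dvd_natCard f) (orderOf_dvd_of_pow_eq_one h1))
      rw [MulAut.one_apply]
      exact div_eq_one.1 hf1
    have hdecV : ∀ c ∈ C, ∀ d ∈ D, (∀ v : V, (c : MulAut V) v = v → v = 1) →
        (∀ v : V, (d : MulAut V) v = v → v = 1) → ∀ v : V, v = 1 := by
      intro c hc d hd h1 h2 v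
      obtain ⟨u, w, e1, e2, rfl⟩ := hdec c hc d hd v
      rw [h1 u e1, h2 w e2, mul_one]
    have hVone : ¬ ∀ v : V, v = 1 := fun hall => hne ((Subgroup.eq_bot_iff_forall A).2 fun a _ =>
      MulEquiv.ext fun v => by rw [hall v, map_one, MulAut.one_apply])
    by_cases hcyc : IsCyclic A
    · -- cyclic case
      obtain ⟨z, hz⟩ : ∃ z : A, orderOf z = p := by
        obtain ⟨k, hk⟩ := IsPGroup.iff_card.1 hA
        have h1 : 1 < Nat.card A := Finite.one_lt_card
        refine exists_prime_orderOf_dvd_card' p ?_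
        rcases k with _ | k
        · rw [pow_zero] at hk; omega
        · rw [hk]; exact dvd_pow_self p k.succ_ne_zero
      have hz1 : z ≠ 1 := fun e => hp.one_lt.ne' (by rw [← hz, e, orderOf_one])
      have hzc : z ∈ Subgroup.center A := by
        letI : CommGroup A := IsCyclic.commGroup
        exact Subgroup.mem_center_iff.2 fun g => mul_comm g z
      have hzp : z ^ p = 1 := hz ▸ pow_orderOf_eq_one z
      obtain ⟨c, hc, hzcp⟩ := exists_generator_mem hA hC z hz1
      obtain ⟨d, hd, hzdp⟩ := exists_generator_mem hA hD z hz1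
      have key : ∀ g : A, z ∈ Subgroup.zpowers g → ∀ v : V, (g : MulAut V) v = v → v = 1 := by
        rintro g ⟨i, rfl⟩ v hv
        refine hfpf _ hzc hzp hz1 v ?_
        rw [Subgroup.coe_zpow]
        exact zpow_mem (show (g : MulAut V) ∈ MulAction.stabilizer (MulAut V) v from hv) i
      exact hVone (hdecV c hc d hd (key c hzcp) (key d hzdp))
    -- the non-cyclic case
    haveI : (⊤ : Subgroup A).Normal := inferInstance
    obtain ⟨E, -, hEn, hEe, hEc⟩ := CfsgLib.PGroup.exists_normal_elementary_sq (S := (⊤ : Subgroup A))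
      (by omega) hA (fun hh => hcyc (Subgroup.topEquiv.isCyclic.1 hh))
    haveI := hEn
    obtain ⟨z, hzne, hzE, hzc⟩ : ∃ z : A, z ≠ 1 ∧ z ∈ E ∧ z ∈ Subgroup.center A :=
      exists_central hA E (fun hb => by
        rw [hb, Subgroup.card_bot] at hEc
        exact (Nat.one_lt_pow two_ne_zero hp.one_lt).ne hEc)
    have hEpow : ∀ x ∈ E, x ^ p = 1 := hEe.2
    obtain ⟨e, heE, hez⟩ : ∃ e ∈ E, e ∉ Subgroup.zpowers z := by
      by_contra hcon
      push Not at hcon
      have h1 := Subgroup.card_dvd_of_le (show E ≤ Subgroup.zpowers z from hcon)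
      rw [hEc, Nat.card_zpowers] at h1
      have h2 := Nat.le_of_dvd (orderOf_pos z) h1
      have h3 := Nat.le_of_dvd hp.pos (orderOf_dvd_of_pow_eq_one (hEpow z hzE))
      nlinarith
    have hzp : z ^ p = 1 := hEpow z hzE
    obtain ⟨ψA, hψA⟩ := exists_pairHom (p := p) (x := e) (y := z)
      (Subgroup.mem_center_iff.1 hzc e) (hEpow e heE) hzp
    set ψ := A.subtype.comp ψA with hψ
    have hψz : act ψ 0 1 = (z : MulAut V) := by
      have := hψA 0 1
      simp only [Nat.cast_zero, Nat.cast_one, pow_zero, pow_one, one_mul] at this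
      show (ψA _ : MulAut V) = _
      rw [this]
    have hψe : act ψ 1 0 = (e : MulAut V) := by
      have := hψA 1 0
      simp only [Nat.cast_zero, Nat.cast_one, pow_zero, pow_one, mul_one] at this
      show (ψA _ : MulAut V) = _
      rw [this]
    have hfix : ∀ v : V, act ψ 0 1 v = v → v = 1 := fun v hv =>
      hfpf z hzc hzp hzne v (by rwa [hψz] at hv)
    by_cases hecent : e ∈ Subgroup.center A
    · -- a central elementary subgroup of order `p²`
      refine hVone fun v => hpow v ?_
      rw [← prod_lineProd ψ hfix v]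
      refine Finset.prod_eq_one fun i _ => ?_
      have hi : ψA (Multiplicative.ofAdd ((1 : ZMod p), i)) = e * z ^ i.val := by
        have := hψA 1 i.val
        simpa using this
      have hne1 : e * z ^ i.val ≠ 1 := fun h1 => hez ((eq_inv_of_mul_eq_one_left h1) ▸
        inv_mem (Subgroup.npow_mem_zpowers z _))
      refine hfpf _ (mul_mem hecent (pow_mem hzc _)) (hEpow _ (mul_mem heE (pow_mem hzE _))) hne1 _ ?_
      rw [← hi]
      exact act_lineProd ψ i v
    -- conjugation shifts the lines
    have hshift : ∀ g : A, ∃ t : ℕ, g * e * g⁻¹ = e * z ^ t := by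
      intro g
      haveI hzn : (Subgroup.zpowers z).Normal := ⟨fun x hx g => by
        obtain ⟨r, rfl⟩ := hx
        have h1 : g * z ^ r = z ^ r * g :=
          Subgroup.mem_center_iff.1 (Subgroup.zpow_mem _ hzc r) g
        exact ⟨r, by simp only; rw [h1, mul_inv_cancel_right]⟩⟩
      let π : A →* A ⧸ Subgroup.zpowers z := QuotientGroup.mk' _
      have hEbar : (E.map π).Normal := hEn.map π (QuotientGroup.mk'_surjective _)
      have hebar : π e ∈ E.map π := Subgroup.mem_map_of_mem π heE
      have hebar1 : π e ≠ 1 := fun h1 => hez ((QuotientGroup.eq_one_iff e).1 h1)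
      have hprime : Nat.card (E.map π) = p := by
        obtain ⟨r, hr, hr'⟩ := (Nat.dvd_prime_pow hp).1 (hEc ▸ Subgroup.card_map_dvd E π)
        haveI : Nontrivial (E.map π) :=
          ⟨⟨⟨_, hebar⟩, 1, fun h1 => hebar1 (congrArg Subtype.val h1)⟩⟩
        have h1 : 1 < Nat.card (E.map π) := Finite.one_lt_card
        interval_cases r
        · simp only [pow_zero] at hr'; omega
        · simpa using hr'
        · exfalso
          let f : E →* E.map π := π.subgroupMap E
          have hf : Function.Bijective f := by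
            rw [Nat.bijective_iff_surjective_and_card]
            exact ⟨π.subgroupMap_surjective E, hEc.trans hr'.symm⟩
          have h2 : f ⟨z, hzE⟩ = 1 :=
            Subtype.ext ((QuotientGroup.eq_one_iff z).2 (Subgroup.mem_zpowers z))
          exact hzne (congrArg Subtype.val (hf.1 (h2.trans (map_one f).symm)))
      haveI : Nontrivial (E.map π) :=
        ⟨⟨⟨_, hebar⟩, 1, fun h1 => hebar1 (congrArg Subtype.val h1)⟩⟩
      obtain ⟨w, hw1, hwE, hwc⟩ := CfsgLib.TwoSetAction.exists_central
        (hA.to_quotient (Subgroup.zpowers z)) (E.map π) ((Subgroup.nontrivial_iff_ne_bot _).1 inferInstance)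
      have hle : E.map π ≤ Subgroup.center (A ⧸ Subgroup.zpowers z) := by
        intro x hx
        haveI := Fact.mk (hprime ▸ hp : (Nat.card (E.map π)).Prime)
        have hw' : (⟨w, hwE⟩ : E.map π) ≠ 1 := fun h1 => hw1 (congrArg Subtype.val h1)
        obtain ⟨r, hr⟩ := mem_zpowers_of_prime_card (G := E.map π) rfl hw' (g' := (⟨x, hx⟩ : E.map π))
        have hr' : w ^ r = x := congrArg Subtype.val hr
        rw [← hr']
        exact zpow_mem hwc r
      have h1 := Subgroup.mem_center_iff.1 (hle hebar) (π g)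
      rw [← map_mul, ← map_mul] at h1
      obtain ⟨r, hr⟩ := (QuotientGroup.eq.1 h1 : (g * e)⁻¹ * (e * g) ∈ Subgroup.zpowers z)
      simp only at hr
      obtain ⟨t, ht⟩ : ∃ t : ℕ, z ^ (-r) = z ^ t := ⟨((-r) % (orderOf z : ℤ)).toNat, by
        rw [← zpow_mod_orderOf, ← zpow_natCast, Int.toNat_of_nonneg
          (Int.emod_nonneg _ (by exact_mod_cast (orderOf_pos z).ne'))]⟩
      refine ⟨t, ?_⟩
      have hzg : ∀ n : ℤ, g * z ^ n = z ^ n * g := fun n =>
        Subgroup.mem_center_iff.1 (Subgroup.zpow_mem _ hzc n) g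
      rw [← ht, mul_inv_eq_iff_eq_mul]
      have h2 : e * g = g * e * z ^ r := by rw [hr]; group
      calc g * e = e * g * (z ^ r)⁻¹ := by rw [h2]; group
        _ = e * (g * z ^ (-r)) := by rw [← zpow_neg]; group
        _ = e * z ^ (-r) * g := by rw [hzg]; group
    have hmove : ∀ (g : A) (t : ℕ), g * e * g⁻¹ = e * z ^ t → ∀ (i : ZMod p) (v : V),
        (g : MulAut V) (lineProd ψ i v) = lineProd ψ (i + t) ((g : MulAut V) v) := by
      intro g t ht i v
      rw [lineProd_apply, lineProd_apply, map_prod]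
      refine Finset.prod_congr rfl fun a _ => ?_
      show (g : MulAut V) ((ψA (Multiplicative.ofAdd (a, i * a)) : MulAut V) v) =
        (ψA (Multiplicative.ofAdd (a, (i + t) * a)) : MulAut V) ((g : MulAut V) v)
      have e1 := hψA a.val (i * a).val
      have e2 := hψA a.val ((i * a).val + t * a.val)
      simp only [ZMod.natCast_val, ZMod.cast_id', id_eq, Nat.cast_add, Nat.cast_mul] at e1 e2
      rw [← add_mul] at e2
      rw [e1, e2]
      have hg : g * (e ^ a.val * z ^ (i * a).val) =
          e ^ a.val * z ^ ((i * a).val + t * a.val) * g := by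
        have hzt : Commute e (z ^ t) := Subgroup.mem_center_iff.1 (pow_mem hzc t) e
        have h1 : g * e ^ a.val * g⁻¹ = e ^ a.val * z ^ (t * a.val) := by
          rw [← conj_pow, ht, hzt.mul_pow, ← pow_mul]
        rw [mul_inv_eq_iff_eq_mul] at h1
        have h2 : g * z ^ (i * a).val = z ^ (i * a).val * g :=
          Subgroup.mem_center_iff.1 (pow_mem hzc _) g
        calc g * (e ^ a.val * z ^ (i * a).val) = g * e ^ a.val * z ^ (i * a).val := by group
          _ = e ^ a.val * z ^ (t * a.val) * (g * z ^ (i * a).val) := by rw [h1]; group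
          _ = e ^ a.val * (z ^ (t * a.val) * z ^ (i * a).val) * g := by rw [h2]; group
          _ = _ := by rw [← pow_add, add_comm (t * a.val)]
      rw [← MulAut.mul_apply, ← MulAut.mul_apply, ← Subgroup.coe_mul, ← Subgroup.coe_mul, hg]
    have hnotfix : ∀ S : Set A, Subgroup.closure S = ⊤ →
        ∃ g ∈ S, ∃ t : ℕ, g * e * g⁻¹ = e * z ^ t ∧ (t : ZMod p) ≠ 0 := by
      intro S hS
      by_contra hcon
      push Not at hcon
      refine hecent (Subgroup.mem_center_iff.2 ?_)
      have hle : Subgroup.closure S ≤ Subgroup.centralizer {e} := by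
        refine (Subgroup.closure_le _).2 fun g hg => ?_
        obtain ⟨t, ht⟩ := hshift g
        have h0 := hcon g hg t ht
        rw [ZMod.natCast_eq_zero_iff] at h0
        obtain ⟨r, rfl⟩ := h0
        rw [pow_mul, hzp, one_pow, mul_one] at ht
        exact Subgroup.mem_centralizer_singleton_iff.2 (mul_inv_eq_iff_eq_mul.1 ht)
      intro g
      rw [hS] at hle
      exact Subgroup.mem_centralizer_singleton_iff.1 (hle (Subgroup.mem_top g))
    obtain ⟨c, hc, t, ht, ht0⟩ := hnotfix C hC
    obtain ⟨d, hd, t', ht', ht0'⟩ := hnotfix D hD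
    -- fixed points inject into one line
    have hinj : ∀ (g : A) (t : ℕ), g * e * g⁻¹ = e * z ^ t → (t : ZMod p) ≠ 0 →
        ∀ v : V, (g : MulAut V) v = v → lineProd ψ 0 v = 1 → v = 1 := by
      intro g t ht ht0 v hv hv0
      refine hpow v ?_
      rw [← prod_lineProd ψ hfix v]
      refine Finset.prod_eq_one fun i _ => ?_
      have hall : ∀ n : ℕ, lineProd ψ ((n : ZMod p) * t) v = 1 := by
        intro n
        induction n with
        | zero => simpa using hv0
        | succ n ih' =>
          have := hmove g t ht ((n : ZMod p) * t) v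
          rw [hv, ih', map_one] at this
          rw [Nat.cast_succ, add_mul, one_mul]
          exact this.symm
      have := hall (i * (t : ZMod p)⁻¹).val
      rwa [ZMod.natCast_val, ZMod.cast_id, inv_mul_cancel_right₀ ht0] at this
    set V₀ := (lineProd ψ (0 : ZMod p)).range with hV₀
    have hsmall : ∀ (g : A) (t : ℕ), g * e * g⁻¹ = e * z ^ t → (t : ZMod p) ≠ 0 →
        Nat.card {v : V // (g : MulAut V) v = v} ≤ Nat.card V₀ := by
      intro g t ht ht0
      refine Nat.card_le_card_of_injective (fun v => (⟨lineProd ψ 0 v.1, v.1, rfl⟩ : V₀)) ?_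
      intro u v huv
      have huv' : lineProd ψ 0 u.1 = lineProd ψ 0 v.1 := congrArg Subtype.val huv
      refine Subtype.ext (div_eq_one.1 (hinj g t ht ht0 _ ?_ ?_))
      · rw [map_div, u.2, v.2]
      · rw [map_div, huv', div_self']
    have hcov : Nat.card V ≤ Nat.card V₀ * Nat.card V₀ := by
      refine le_trans ?_ (Nat.mul_le_mul (hsmall c t ht ht0) (hsmall d t' ht' ht0'))
      rw [← Nat.card_prod]
      refine Nat.card_le_card_of_surjective (fun x => x.1.1 * x.2.1) fun v => ?_
      obtain ⟨u, w, e1, e2, e3⟩ := hdec c hc d hd v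
      exact ⟨(⟨u, e1⟩, ⟨w, e2⟩), e3.symm⟩
    have hthree : Nat.card V₀ * (Nat.card V₀ * Nat.card V₀) ≤ Nat.card V := by
      rw [← Nat.card_prod, ← Nat.card_prod]
      let Φ : V₀ × (V₀ × V₀) →* V := MonoidHom.mk'
        (fun x => (x.1 : V) * (c : MulAut V) ((x.2.1 : V) * (c : MulAut V) (x.2.2 : V)))
        (fun x y => by
          simp only [Prod.fst_mul, Prod.snd_mul, Subgroup.coe_mul, map_mul]
          ac_rfl)
      refine Nat.card_le_card_of_injective Φ ((injective_iff_map_eq_one Φ).2 ?_)
      rintro ⟨⟨_, x, rfl⟩, ⟨_, y, rfl⟩, ⟨_, w, rfl⟩⟩ hx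
      have h0 : ∀ u, lineProd ψ 0 ((c : MulAut V) (lineProd ψ 0 u)) = 1 := fun u => by
        rw [hmove c t ht 0 u, zero_add]
        exact lineProd_comp ψ hfix ht0.symm _
      have h00 : ∀ u, lineProd ψ 0 ((c : MulAut V) ((c : MulAut V) (lineProd ψ 0 u))) = 1 := fun u => by
        rw [hmove c t ht 0 u, hmove c t ht _ _, zero_add]
        refine lineProd_comp ψ hfix (fun h2 => ?_) _
        have h3 : (2 : ZMod p) * (t : ZMod p) = 0 := by rw [two_mul, ← h2]
        rcases mul_eq_zero.1 h3 with h4 | h4
        · have h5 : ((2 : ℕ) : ZMod p) = 0 := by exact_mod_cast h4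
          rw [ZMod.natCast_eq_zero_iff] at h5
          have := Nat.le_of_dvd (by norm_num) h5
          omega
        · exact ht0 h4
      have hx' : lineProd ψ 0 x * (c : MulAut V) (lineProd ψ 0 y * (c : MulAut V) (lineProd ψ 0 w)) = 1 := hx
      have hA0 : lineProd ψ 0 x = 1 := by
        apply hpow
        have := congrArg (lineProd ψ 0) hx'
        rwa [map_mul (lineProd ψ 0), map_mul (c : MulAut V), map_mul (lineProd ψ 0), h0, h00,
          lineProd_self, mul_one, mul_one, map_one] at this
      rw [hA0, one_mul, EmbeddingLike.map_eq_one_iff] at hx'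
      have hB0 : lineProd ψ 0 y = 1 := by
        apply hpow
        have := congrArg (lineProd ψ 0) hx'
        rwa [map_mul (lineProd ψ 0), h0, lineProd_self, mul_one, map_one] at this
      rw [hB0, one_mul, EmbeddingLike.map_eq_one_iff] at hx'
      exact Prod.ext (Subtype.ext hA0) (Prod.ext (Subtype.ext hB0) (Subtype.ext hx'))
    apply hVone
    have h1 := Nat.card_pos (α := V₀)
    have h2 : Nat.card V₀ = 1 := by nlinarith
    intro v
    have h3 : Nat.card V ≤ 1 := by rw [h2] at hcov; simpa using hcov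
    have : Subsingleton V := (Finite.card_le_one_iff_subsingleton).1 h3
    exact Subsingleton.elim v 1

end CfsgLib.TwoSetAction
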