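import Mathlib
import Cfsg.Agent.Lib.TwoSetAction.Core
import Cfsg.Agent.Lib.PGroup.Basic
import Cfsg.Agent.Lib.Solvable.CoprimeAction

/-!
A Sylow subgroup with two generating sets pairwise generating `p`-groups up to conjugation in the
normal complement centralises the complement.
-/

set_option autoImplicit false

namespace CfsgLib.TwoSetAction

open Subgroup
open scoped Pointwise

theorem exists_decomposition {G : Type*} [Group G] [Finite G] {p : ℕ} [Fact p.Prime] (P : Sylow p G)
    (N : Subgroup G) [N.Normal] (hN : (Nat.card N).Coprime p) (hNP : N ⊔ (P : Subgroup G) = ⊤)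
    {x c d : G} (hx : x ∈ N) (hc : c ∈ (P : Subgroup G)) (hd : d ∈ (P : Subgroup G))
    (h : IsPGroup p (closure ({x * c * x⁻¹, d} : Set G))) :
    ∃ u ∈ N, ∃ w ∈ N, u * d = d * u ∧ w * c = c * w ∧ x = u * w := by
  obtain ⟨S, hS⟩ := h.exists_le_sylow
  obtain ⟨g, rfl⟩ := MulAction.exists_smul_eq G P S
  have hg : g ∈ (N : Set G) * (P : Subgroup G) := by
    rw [← normal_mul, hNP]; exact mem_top g
  obtain ⟨v, hv, r, hr, rfl⟩ := hg
  have hP : ∀ y ∈ closure ({x * c * x⁻¹, d} : Set G), v⁻¹ * y * v ∈ (P : Subgroup G) := by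
    intro y hy
    have h1 := hS hy
    rw [Sylow.coe_subgroup_smul, mem_pointwise_smul_iff_inv_smul_mem] at h1
    have h2 : (v * r)⁻¹ * y * (v * r) ∈ (P : Subgroup G) := by simpa [MulAut.smul_def, mul_assoc] using h1
    have := mul_mem (mul_mem hr h2) (inv_mem hr)
    simpa [mul_assoc] using this
  have hdis : ∀ y, y ∈ N → y ∈ (P : Subgroup G) → y = 1 := fun y hyN hyP => by
    obtain ⟨i, hi⟩ := IsPGroup.iff_orderOf.1 P.2 ⟨y, hyP⟩
    rw [orderOf_mk] at hi
    exact orderOf_eq_one_iff.1 (Nat.eq_one_of_dvd_coprimes (hN.pow_right i)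
      (orderOf_dvd_natCard N hyN) (dvd_of_eq hi))
  have hfix : ∀ w b : G, w ∈ N → b ∈ (P : Subgroup G) → w * b * w⁻¹ ∈ (P : Subgroup G) → w * b = b * w := by
    intro w b hw hb hwb
    have h1 : w * b * w⁻¹ * b⁻¹ = 1 := hdis _ (by
      have := mul_mem hw (Normal.conj_mem inferInstance w⁻¹ (inv_mem hw) b)
      simpa [mul_assoc] using this) (mul_mem hwb (inv_mem hb))
    rwa [mul_inv_eq_one, mul_inv_eq_iff_eq_mul] at h1
  refine ⟨v, hv, v⁻¹ * x, mul_mem (inv_mem hv) hx, ?_, ?_, by group⟩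
  · have h1 := hP d (subset_closure (by simp))
    have h2 : Commute v⁻¹ d := hfix v⁻¹ d (inv_mem hv) hd (by simpa using h1)
    exact Commute.inv_left_iff.1 h2
  · have h1 := hP (x * c * x⁻¹) (subset_closure (by simp))
    exact hfix _ c (mul_mem (inv_mem hv) hx) hc (by simpa [mul_assoc] using h1)

/-- The decomposition inside an invariant subgroup. -/
theorem exists_decomposition_sub {G : Type*} [Group G] [Finite G] {p : ℕ} [Fact p.Prime] (P : Sylow p G)
    (K : Subgroup G) (hK : (Nat.card K).Coprime p) (hnorm : (P : Subgroup G) ≤ normalizer (K : Set G))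
    {x c d : G} (hx : x ∈ K) (hc : c ∈ (P : Subgroup G)) (hd : d ∈ (P : Subgroup G))
    (h : IsPGroup p (closure ({x * c * x⁻¹, d} : Set G))) :
    ∃ u ∈ K, ∃ w ∈ K, u * d = d * u ∧ w * c = c * w ∧ x = u * w := by
  set L := K ⊔ (P : Subgroup G) with hL
  haveI : (K.subgroupOf L).Normal :=
    (normal_subgroupOf_iff_le_normalizer (le_sup_left : K ≤ L)).2
      (sup_le Subgroup.le_normalizer hnorm)
  have htop : K.subgroupOf L ⊔ ((P.subtype le_sup_right : Sylow p L) : Subgroup L) = ⊤ := by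
    rw [Sylow.coe_subtype, ← subgroupOf_sup le_sup_left le_sup_right]
    exact subgroupOf_self L
  have hxL : x ∈ L := mem_sup_left hx
  have hcL : c ∈ L := mem_sup_right hc
  have hdL : d ∈ L := mem_sup_right hd
  have hp : IsPGroup p (closure ({(⟨x, hxL⟩ : L) * ⟨c, hcL⟩ * (⟨x, hxL⟩ : L)⁻¹, ⟨d, hdL⟩} : Set L)) := by
    have hle : (closure ({(⟨x, hxL⟩ : L) * ⟨c, hcL⟩ * (⟨x, hxL⟩ : L)⁻¹, ⟨d, hdL⟩} : Set L)) ≤
        (closure ({x * c * x⁻¹, d} : Set G)).comap L.subtype := by
      rw [closure_le]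
      rintro y (rfl | rfl)
      · exact subset_closure (by simp)
      · exact subset_closure (by simp)
    exact (h.comap_of_injective L.subtype L.subtype_injective).to_le hle
  obtain ⟨u, hu, w, hw, e1, e2, e3⟩ := exists_decomposition (P.subtype le_sup_right) (K.subgroupOf L)
    (by rwa [Nat.card_congr (subgroupOfEquivOfLe (le_sup_left : K ≤ L)).toEquiv]) htop
    (x := ⟨x, hxL⟩) (c := ⟨c, hcL⟩) (d := ⟨d, hdL⟩) hx hc hd hp
  exact ⟨u, hu, w, hw, congrArg Subtype.val e1, congrArg Subtype.val e2, congrArg Subtype.val e3⟩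

/-- The main theorem. -/
theorem le_centralizer {G : Type*} [Group G] [Finite G] (p : ℕ) [Fact p.Prime] (hp3 : 3 ≤ p)
    (P : Sylow p G) (N : Subgroup G) [N.Normal] (hN : (Nat.card N).Coprime p)
    (C D : Set G) (hC : closure C = (P : Subgroup G)) (hD : closure D = (P : Subgroup G))
    (h : ∀ x ∈ N, ∀ c ∈ C, ∀ d ∈ D, IsPGroup p (closure ({x * c * x⁻¹, d} : Set G))) :
    (P : Subgroup G) ≤ centralizer (N : Set G) := by
  have hPN : (P : Subgroup G) ≤ normalizer (N : Set G) := by rw [normalizer_eq_top]; exact le_top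
  obtain ⟨n, hn⟩ := IsPGroup.iff_card.1 P.2
  have hcop : (Nat.card (P : Subgroup G)).Coprime (Nat.card N) := by
    rw [hn]; exact (hN.pow_right n).symm
  haveI : Group.IsNilpotent (P : Subgroup G) := P.2.isNilpotent
  set X := (centralizer ((P : Subgroup G) : Set G)).subgroupOf N with hX
  suffices hidx : X.index = 1 by
    rw [le_centralizer_iff]
    exact subgroupOf_eq_top.1 (index_eq_one.1 hidx)
  refine Nat.eq_one_iff_not_exists_prime_dvd.2 fun q hq hqd => ?_
  haveI := Fact.mk hq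
  obtain ⟨Q, hQn⟩ := CfsgLib.Solvable.exists_invariant_sylow hPN hcop
    (Or.inl inferInstance) q
  set K := (Q : Subgroup N).map N.subtype with hK
  have hKN : K ≤ N := map_subtype_le _
  have hKcop : (Nat.card K).Coprime p := hN.coprime_dvd_left (card_dvd_of_le hKN)
  have hKq : IsPGroup q K := Q.2.map _
  letI : CommGroup (K ⧸ frattini K) :=
    { (inferInstance : Group (K ⧸ frattini K)) with
      mul_comm := fun a b => by
        obtain ⟨a, rfl⟩ := QuotientGroup.mk_surjective a
        obtain ⟨b, rfl⟩ := QuotientGroup.mk_surjective b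
        rw [← QuotientGroup.mk_mul, ← QuotientGroup.mk_mul, QuotientGroup.eq]
        have h1 := CfsgLib.PGroup.commutator_le_frattini hKq
          (commutator_mem_commutator (mem_top b⁻¹) (mem_top a⁻¹))
        simpa [commutatorElement_def, mul_assoc] using h1 }
  let κ : (P : Subgroup G) →* MulAut K := MonoidHom.mk'
    (fun a => ((normalizerMonoidHom K).comp (inclusion hQn)) a) (fun a b => map_mul _ a b)
  let ι : MulAut K →* MulAut (K ⧸ frattini K) := MonoidHom.mk'
    (fun e => QuotientGroup.congr (frattini K) (frattini K) e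
      (characteristic_iff_map_eq.1 inferInstance e))
    (fun a b => MulEquiv.ext fun v => by
      obtain ⟨v, rfl⟩ := QuotientGroup.mk_surjective v
      rfl)
  let φ := ι.comp κ
  have hφ : ∀ (a : (P : Subgroup G)) (k : K), ∃ k' : K, (k' : G) = a * k * (a : G)⁻¹ ∧
      φ a (QuotientGroup.mk k) = QuotientGroup.mk k' := fun a k => ⟨κ a k, rfl, rfl⟩
  set A := φ.range with hA
  let C' : Set A := φ.rangeRestrict '' ((fun a : (P : Subgroup G) => (a : G)) ⁻¹' C)
  let D' : Set A := φ.rangeRestrict '' ((fun a : (P : Subgroup G) => (a : G)) ⁻¹' D)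
  have hgen : ∀ S : Set G, closure S = (P : Subgroup G) →
      closure (φ.rangeRestrict '' ((fun a : (P : Subgroup G) => (a : G)) ⁻¹' S)) = ⊤ := by
    intro S hS
    rw [← MonoidHom.map_closure]
    have h1 : closure ((fun a : (P : Subgroup G) => (a : G)) ⁻¹' S) = ⊤ := by
      apply map_injective (P : Subgroup G).subtype_injective
      rw [MonoidHom.map_closure, ← MonoidHom.range_eq_map, range_subtype]
      refine Eq.trans (congrArg Subgroup.closure ?_) hS
      refine Set.image_preimage_eq_of_subset fun y hy => ?_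
      exact ⟨⟨y, hS.le (Subgroup.subset_closure hy)⟩, rfl⟩
    rw [h1, map_top_of_surjective _ φ.rangeRestrict_surjective]
  have hbot : A = ⊥ := by
    refine trivial_of_decomposes hp3 _ le_rfl ?_ A (P.2.of_surjective _ φ.rangeRestrict_surjective)
      C' D' (hgen C hC) (hgen D hD) ?_
    · exact hKcop.coprime_dvd_left (card_quotient_dvd_card _)
    · rintro _ ⟨⟨c, hcP⟩, hc, rfl⟩ _ ⟨⟨d, hdP⟩, hd, rfl⟩ v
      obtain ⟨⟨x, hx⟩, rfl⟩ := QuotientGroup.mk_surjective v
      obtain ⟨u, hu, w, hw, e1, e2, e3⟩ :=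
        exists_decomposition_sub P K hKcop hQn hx hcP hdP (h x (hKN hx) c hc d hd)
      refine ⟨QuotientGroup.mk ⟨w, hw⟩, QuotientGroup.mk ⟨u, hu⟩, ?_, ?_, ?_⟩
      · obtain ⟨k', hk', e⟩ := hφ ⟨c, hcP⟩ ⟨w, hw⟩
        refine e.trans (congrArg _ (Subtype.ext ?_))
        rw [hk']; show c * w * c⁻¹ = w
        rw [← e2, mul_inv_cancel_right]
      · obtain ⟨k', hk', e⟩ := hφ ⟨d, hdP⟩ ⟨u, hu⟩
        refine e.trans (congrArg _ (Subtype.ext ?_))
        rw [hk']; show d * u * d⁻¹ = u
        rw [← e1, mul_inv_cancel_right]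
      · have : (QuotientGroup.mk (⟨x, hx⟩ : K) : K ⧸ frattini K) =
            QuotientGroup.mk ⟨u, hu⟩ * QuotientGroup.mk ⟨w, hw⟩ := congrArg _ (Subtype.ext e3)
        rw [this, mul_comm]
  have hKX : (Q : Subgroup N) ≤ X := by
    have hle : (P : Subgroup G) ≤ centralizer (K : Set G) := by
      refine CfsgLib.Solvable.le_centralizer_of_trivial_on_frattini_quotient
        (hcop.coprime_dvd_right ((card_subgroup_dvd_card (frattini K)).trans
          (card_dvd_of_le hKN))) ?_
      intro a ha k hk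
      have h1 : φ ⟨a, ha⟩ = 1 := by
        have hm : φ ⟨a, ha⟩ ∈ A := ⟨⟨a, ha⟩, rfl⟩
        rwa [hbot, mem_bot] at hm
      obtain ⟨k', hk', e⟩ := hφ ⟨a, ha⟩ ⟨k, hk⟩
      rw [h1, MulAut.one_apply] at e
      have h2 : k' * (⟨k, hk⟩ : K)⁻¹ ∈ frattini K := by
        have h3 := QuotientGroup.eq.1 e
        have := Normal.conj_mem inferInstance _ h3 (⟨k, hk⟩ : K)
        simpa [mul_assoc] using this
      refine ⟨_, h2, ?_⟩
      simp [hk']
    intro y hy
    rw [hX, mem_subgroupOf]
    exact le_centralizer_iff.1 hle (mem_map_of_mem N.subtype hy)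
  exact Q.not_dvd_index (hqd.trans (index_dvd_of_le hKX))

end CfsgLib.TwoSetAction
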